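import Groth.Agent.S2092
import Groth.Agent.S5758
import Groth.Agent.S7137
import Groth.Agent.S0601
import Groth.Agent.CodOpen6.Basic
import Groth.Agent.LC.GorLoc
import Groth.Agent.FormCat.OnePlus
import Groth.Agent.IntBC.Main
import Groth.Agent.SmoothDim.Basic
import Groth.Agent.AvramovLib.Ps
import Mathlib.RingTheory.MvPolynomial.Ideal
import Mathlib.RingTheory.MvPolynomial.Homogeneous

/-!
# Projective normality of normal complete intersections
-/

universe u

open IsLocalRing

namespace Groth.Agent.ProjNorm6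

/-- In a Cohen–Macaulay ring the quotient by `r` elements generating an ideal of height `≥ r` has
Cohen–Macaulay local rings, of the expected dimension. -/
theorem ci_local (S : Type u) [CommRing S] [IsNoetherianRing S] [LocCoh.IsCohenMacaulayRing S]
    {r : ℕ} (f : Fin r → S) (J : Ideal S) (hJs : J = Ideal.span (Set.range f)) (hJ : (r : ℕ∞) ≤ J.height)
    (Q : Ideal (S ⧸ J)) [Q.IsPrime] :
    (Q.height : WithBot ℕ∞) = LocCoh.depth (Localization.AtPrime Q) (Localization.AtPrime Q) ∧
      Q.height + r = (Q.comap (Ideal.Quotient.mk J)).height := by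
  let P := Q.comap (Ideal.Quotient.mk J)
  haveI : P.IsPrime := Ideal.comap_isPrime _ _
  have hJP : J ≤ P := Ideal.mk_ker.ge.trans (Ideal.ker_le_comap _)
  obtain ⟨Q', _, hQ', ⟨e⟩⟩ := CodOpen6.exists_quotient_equiv J P hJP
  obtain rfl : Q' = Q := by rw [hQ', Ideal.map_comap_of_surjective _ Ideal.Quotient.mk_surjective]
  let T := Localization.AtPrime P
  haveI : LocCoh.IsCohenMacaulayLocalRing T := LocCoh.IsCohenMacaulayRing.isCohenMacaulayLocalRing_localization P
  have hCM : LocCoh.IsCohenMacaulayModule T T := LocCoh.IsCohenMacaulayLocalRing.supportDim_eq_depth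
  let J' := J.map (algebraMap S T)
  let xs : List T := List.ofFn fun i => algebraMap S T (f i)
  have hxs : Ideal.ofList xs = J' := by
    show _ = J.map (algebraMap S T)
    rw [hJs, Ideal.map_span]
    unfold Ideal.ofList
    congr 1
    ext x
    simp [xs, List.mem_ofFn]
  have hmem : ∀ x ∈ xs, x ∈ maximalIdeal T := by
    intro x hx
    obtain ⟨i, rfl⟩ := List.mem_ofFn.1 hx
    exact (IsLocalization.AtPrime.to_map_mem_maximal_iff T P _).2 (hJP (hJs ▸ Ideal.subset_span ⟨i, rfl⟩))
  have htop : J' ≠ ⊤ := fun h => (maximalIdeal.isMaximal T).ne_top (top_le_iff.1 (h ▸ hxs ▸ Ideal.span_le.2 hmem))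
  have hlow : (r : ℕ∞) ≤ J'.height := by
    rw [Ideal.height_eq_inf_minimalPrimes]
    refine le_iInf₂ fun q hq => ?_
    haveI := hq.1.1
    have hc : J ≤ q.comap (algebraMap S T) := Ideal.map_le_iff_le_comap.1 hq.1.2
    rw [← IsLocalization.height_under P.primeCompl q]
    exact hJ.trans (Ideal.height_mono hc)
  have hup : J'.height ≤ (r : ℕ∞) := by
    refine (Ideal.height_le_spanFinrank J' htop).trans ?_
    rw [← hxs]
    unfold Ideal.ofList
    classical
    rw [← List.coe_toFinset]
    refine le_trans (Nat.cast_le.2 (Submodule.spanFinrank_span_le_ncard_of_finite (xs.toFinset).finite_toSet)) ?_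
    rw [Set.ncard_coe_finset]
    exact_mod_cast (List.toFinset_card_le xs).trans (List.length_ofFn).le
  have hh : J'.height = r := le_antisymm hup hlow
  have hdim := LC.height_add_ringKrullDim_quotient J' htop
  have hsd : Module.supportDim T (T ⧸ J') = ringKrullDim (T ⧸ J') := Module.supportDim_quotient_eq_ringKrullDim J'
  have heqv : (Ideal.ofList xs • (⊤ : Submodule T T)) = J' := by rw [smul_eq_mul, Ideal.mul_top, hxs]
  have hreg : RingTheory.Sequence.IsWeaklyRegular T xs := by
    refine (S5758.result T T hCM xs hmem).1.2 ?_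
    rw [Module.supportDim_eq_of_equiv (Submodule.quotEquivOfEq _ _ heqv), hsd,
      Module.supportDim_self_eq_ringKrullDim, ← hdim, hh, List.length_ofFn]
    rfl
  have hCM' := (S5758.result T T hCM xs hmem).2 hreg
  unfold LocCoh.IsCohenMacaulayModule at hCM'
  rw [Module.supportDim_eq_of_equiv (Submodule.quotEquivOfEq _ _ heqv),
    Hensel.depth_congr (Submodule.quotEquivOfEq _ _ heqv), hsd] at hCM'
  haveI : Nontrivial (T ⧸ J') := Ideal.Quotient.nontrivial_iff.2 htop
  haveI : IsLocalRing (T ⧸ J') := IsLocalRing.of_surjective' (Ideal.Quotient.mk J') Ideal.Quotient.mk_surjective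
  rw [S7137.depth_eq_of_surjective (R := T) (S := T ⧸ J') Ideal.Quotient.mk_surjective (T ⧸ J')] at hCM'
  let g : Localization.AtPrime Q' →+* T ⧸ J' := e
  have hdepth : LocCoh.depth (T ⧸ J') (T ⧸ J') = LocCoh.depth (Localization.AtPrime Q') (Localization.AtPrime Q') := by
    letI := g.toAlgebra
    rw [← S7137.depth_eq_of_surjective (R := Localization.AtPrime Q') (S := T ⧸ J') e.surjective (T ⧸ J')]
    exact Hensel.depth_congr (LinearEquiv.ofBijective (Algebra.linearMap (Localization.AtPrime Q') (T ⧸ J'))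
      e.bijective).symm
  have hdimQ : ringKrullDim (T ⧸ J') = (Q'.height : WithBot ℕ∞) := by
    rw [← ringKrullDim_eq_of_ringEquiv e, IsLocalization.AtPrime.ringKrullDim_eq_height Q']
  constructor
  · rw [← hdimQ, hCM', hdepth]
  · rw [hdimQ, IsLocalization.AtPrime.ringKrullDim_eq_height P, hh] at hdim
    exact_mod_cast hdim

theorem isRegularLocalRing_of_dim_le_one (R : Type u) [CommRing R] [IsNoetherianRing R] [IsLocalRing R]
    [IsDomain R] [IsIntegrallyClosed R] (h : ringKrullDim R ≤ 1) : IsRegularLocalRing R := by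
  haveI : Ring.KrullDimLE 1 R := Ring.krullDimLE_iff.2 h
  haveI : Ring.DimensionLEOne R := ⟨fun hne hp => hp.isMaximal_of_ne_bot hne⟩
  haveI : IsDedekindRing R := { }
  haveI : IsDedekindDomain R := { }
  haveI : IsPrincipalIdealRing R := IsPrincipalIdealRing.of_finite_primes
    ((Set.toFinite {⊥, maximalIdeal R}).subset fun P (hP : P.IsPrime) => by
      rcases eq_or_ne P ⊥ with h | h
      · exact Or.inl h
      · exact Or.inr (IsLocalRing.eq_maximalIdeal (hP.isMaximal_of_ne_bot h)))
  infer_instance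

variable {k : Type u} [Field k]

open MvPolynomial in
/-- An element without constant term which is idempotent modulo a homogeneous ideal lies in it. -/
theorem mem_of_sq_sub_mem {σ : Type} {r : ℕ} (f : Fin r → MvPolynomial σ k) (d : Fin r → ℕ) (hf : ∀ i, (f i).IsHomogeneous (d i)) {g : MvPolynomial σ k}
    (h0 : constantCoeff g = 0) (hg : g * g - g ∈ Ideal.span (Set.range f)) : g ∈ Ideal.span (Set.range f) := by
  letI := MvPolynomial.gradedAlgebra (R := k) (σ := σ)
  have hJ : (Ideal.span (Set.range f)).IsHomogeneous (homogeneousSubmodule σ k) := by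
    refine Ideal.homogeneous_span _ _ ?_
    rintro _ ⟨i, rfl⟩
    exact ⟨d i, hf i⟩
  suffices h : ∀ j, homogeneousComponent j g ∈ Ideal.span (Set.range f) by
    rw [← sum_homogeneousComponent g]
    exact Ideal.sum_mem _ fun j _ => h j
  have hcomp : ∀ {p : MvPolynomial σ k}, p ∈ Ideal.span (Set.range f) →
      ∀ j, homogeneousComponent j p ∈ Ideal.span (Set.range f) := fun hp j => by
    have := hJ j hp
    rwa [← decomposition.decompose'_apply] 
  intro j
  induction j using Nat.strong_induction_on with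
  | _ j ih =>
    rcases Nat.eq_zero_or_pos j with rfl | hj
    · rw [homogeneousComponent_zero, show coeff 0 g = 0 from h0, map_zero]
      exact zero_mem _
    have h1 := hcomp hg j
    rw [map_sub] at h1
    suffices homogeneousComponent j (g * g) ∈ Ideal.span (Set.range f) by
      simpa using (Ideal.span (Set.range f)).sub_mem this h1
    rw [← sum_homogeneousComponent g, Finset.sum_mul_sum, map_sum]
    refine Ideal.sum_mem _ fun a _ => ?_
    rw [map_sum]
    refine Ideal.sum_mem _ fun b _ => ?_
    rw [homogeneousComponent_of_mem ((homogeneousComponent_isHomogeneous a g).mul (homogeneousComponent_isHomogeneous b g))]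
    split_ifs with hab
    · rcases Nat.lt_or_ge a j with h | h
      · exact Ideal.mul_mem_right _ _ (ih a h)
      · refine Ideal.mul_mem_left _ _ ?_
        rw [show b = 0 by omega, homogeneousComponent_zero, show coeff 0 g = 0 from h0, map_zero]
        exact zero_mem _
    · exact zero_mem _

open MvPolynomial in
/-- The theorem. -/
theorem projNormal (n r : ℕ) (hr : r < n) (f : Fin r → MvPolynomial (Fin (n + 1)) k) (d : Fin r → ℕ)
    (hf : ∀ i, (f i).IsHomogeneous (d i)) (hd : ∀ i, 0 < d i)
    (J : Ideal (MvPolynomial (Fin (n + 1)) k)) (hJs : J = Ideal.span (Set.range f)) (hJ : J.height = r)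
    (hnorm : ∀ (Q : Ideal (MvPolynomial (Fin (n + 1)) k ⧸ J)) [Q.IsPrime],
      (∃ i, Ideal.Quotient.mk J (MvPolynomial.X i) ∉ Q) →
        IsDomain (Localization.AtPrime Q) ∧ IsIntegrallyClosed (Localization.AtPrime Q)) :
    IsDomain (MvPolynomial (Fin (n + 1)) k ⧸ J) ∧
      IsIntegrallyClosed (MvPolynomial (Fin (n + 1)) k ⧸ J) := by
  haveI : LocCoh.IsCohenMacaulayRing k := ⟨fun p _ => by
    haveI : IsRegularLocalRing (Localization.AtPrime p) := IsRegularRing.isRegularLocalRing_localization p
    exact AvramovLib.isCM_of_regular _⟩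
  haveI : LocCoh.IsCohenMacaulayRing (MvPolynomial (Fin (n + 1)) k) := S2092.result (n + 1)
  let m : Ideal (MvPolynomial (Fin (n + 1)) k) := RingHom.ker (constantCoeff (R := k) (σ := Fin (n + 1)))
  haveI hm : m.IsMaximal := RingHom.ker_isMaximal_of_surjective _ fun c => ⟨C c, constantCoeff_C _ c⟩
  have hJm : J ≤ m := by
    rw [hJs, Ideal.span_le]
    rintro _ ⟨i, rfl⟩
    exact (hf i).coeff_eq_zero (d := 0) (by simp [(hd i).ne])
  have hnt : J ≠ ⊤ := fun h => hm.ne_top (top_le_iff.1 (h ▸ hJm))
  haveI : Nontrivial ((MvPolynomial (Fin (n + 1)) k) ⧸ J) := Ideal.Quotient.nontrivial_iff.2 hnt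
  have hCI := fun (Q : Ideal ((MvPolynomial (Fin (n + 1)) k) ⧸ J)) [Q.IsPrime] => ci_local (MvPolynomial (Fin (n + 1)) k) f J hJs hJ.ge Q
  have hS2 : LocCoh.HasSk 2 ((MvPolynomial (Fin (n + 1)) k) ⧸ J) ((MvPolynomial (Fin (n + 1)) k) ⧸ J) := (FlatLoc6.hasSk_self_iff 2).2 fun Q _ => by
    refine min_le_of_right_le ?_
    exact_mod_cast (hCI Q).1.le
  have hR1 : LocCoh.HasRk 1 ((MvPolynomial (Fin (n + 1)) k) ⧸ J) := by
    intro Q _ hQ
    have hX : ∃ i, Ideal.Quotient.mk J (X i) ∉ Q := by
      by_contra hcon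
      push Not at hcon
      have hle : m ≤ Q.comap (Ideal.Quotient.mk J) := by
        intro p hp
        have : p ∈ Ideal.span (Set.range (X : Fin (n + 1) → (MvPolynomial (Fin (n + 1)) k))) := by
          rw [show Ideal.span (Set.range (X : Fin (n + 1) → MvPolynomial (Fin (n + 1)) k)) = Ideal.span (X '' Set.univ) from by rw [Set.image_univ], mem_ideal_span_X_image]
          intro u hu
          have hu0 : u ≠ 0 := fun h => MvPolynomial.mem_support_iff.1 hu (by subst h; exact hp)
          obtain ⟨i, hi⟩ : ∃ i, u i ≠ 0 := Finsupp.ne_iff.1 hu0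
          exact ⟨i, Set.mem_univ i, hi⟩
        refine Ideal.span_le.2 ?_ this
        rintro _ ⟨i, rfl⟩
        exact hcon i
      have h1 := (hCI Q).2
      haveI hQc : (Q.comap (Ideal.Quotient.mk J)).IsPrime := Ideal.comap_isPrime _ _
      rw [← hm.eq_of_le hQc.ne_top hle] at h1
      have h2 : m.height = (n + 1 : ℕ) := by
        rw [show m = (⟨m, hm.isPrime⟩ : PrimeSpectrum (MvPolynomial (Fin (n + 1)) k)).asIdeal from rfl, PrimeSpectrum.height_eq_orderHeight]
        exact SmoothDim.height_maximal_mvPolynomial k (n + 1) _ hm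
      rw [h2] at h1
      obtain ⟨a, ha⟩ := ENat.ne_top_iff_exists.1 (ne_top_of_le_ne_top ENat.one_ne_top hQ)
      rw [← ha] at h1 hQ
      norm_cast at h1 hQ
      omega
    obtain ⟨_, _⟩ := hnorm Q hX
    exact isRegularLocalRing_of_dim_le_one (Localization.AtPrime Q) (by
      rw [IsLocalization.AtPrime.ringKrullDim_eq_height Q]
      exact_mod_cast hQ)
  have hN : EGA4.IsNormalRing ((MvPolynomial (Fin (n + 1)) k) ⧸ J) := fun p _ => (S0601.result ((MvPolynomial (Fin (n + 1)) k) ⧸ J)).2 ⟨hR1, hS2⟩ p
  have hidem : ∀ x : (MvPolynomial (Fin (n + 1)) k) ⧸ J, IsIdempotentElem x → x = 0 ∨ x = 1 := by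
    intro x hx
    obtain ⟨g, rfl⟩ := Ideal.Quotient.mk_surjective x
    have key : ∀ g : (MvPolynomial (Fin (n + 1)) k), g * g - g ∈ J → constantCoeff g = 0 → g ∈ J := fun g h1 h2 => by
      subst hJs
      exact mem_of_sq_sub_mem f d hf h2 h1
    have hg : g * g - g ∈ J := Ideal.Quotient.eq.1 (by rw [map_mul]; exact hx)
    have h0 : constantCoeff g * constantCoeff g = constantCoeff g := by
      have := RingHom.mem_ker.1 (hJm hg)
      rwa [map_sub, map_mul, sub_eq_zero] at this
    rcases IsIdempotentElem.iff_eq_zero_or_one.1 h0 with h | h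
    · exact Or.inl (Ideal.Quotient.eq_zero_iff_mem.2 (key g hg h))
    · refine Or.inr (Eq.symm ?_)
      rw [← map_one (Ideal.Quotient.mk J)]
      exact Ideal.Quotient.eq.2 (key (1 - g) (by convert hg using 1; ring) (by rw [map_sub, h, map_one, sub_self]))
  haveI := FormCat.isDomain_of_normal_of_idem _ hN hidem
  exact ⟨inferInstance, IntBC.isIntegrallyClosed_of_normal _ hN⟩

end Groth.Agent.ProjNorm6
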